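import Groth.Agent.Lib.BaseChange.Field
import Mathlib.FieldTheory.PurelyInseparable.Basic
import Mathlib.AlgebraicGeometry.Geometrically.Irreducible
import Mathlib.RingTheory.TensorProduct.Nontrivial

/-!
Irreducible components of base changes to field extensions; separably closed base fields; criteria
for geometric connectedness and irreducibility.
-/

universe u

open CategoryTheory CategoryTheory.Limits AlgebraicGeometry TensorProduct

namespace GrothLib.BaseChange

variable (k : Type u) [Field k] (X : Scheme.{u}) [X.Over (Spec (CommRingCat.of k))]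
variable (K : Type u) [Field K] [Algebra k K]

instance : Flat (Curv2.bcFst k X K) := MorphismProperty.pullback_fst _ _ inferInstance

/-- For a purely inseparable normal extension the projection is a homeomorphism. -/
theorem isHomeomorph_bcFst [Normal k K] [IsPurelyInseparable k K] :
    IsHomeomorph (Curv2.bcFst k X K) := by
  have : Algebra.IsAlgebraic k K := inferInstance
  refine (isHomeomorph_iff_continuous_isClosedMap_bijective).mpr
    ⟨(Curv2.bcFst k X K).continuous, (Curv2.bcFst k X K).isClosedMap, fun z₁ z₂ h => ?_,
      (Curv2.bcFst k X K).surjective⟩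
  obtain ⟨σ, rfl⟩ := exists_galAct_eq k X K z₁ z₂ h
  have : σ = 1 := AlgEquiv.coe_toAlgHom_injective (Subsingleton.elim _ _)
  subst this
  rw [galAct_one]
  rfl

section sepClosed

variable [IsSepClosed k]

theorem isIrreducible_preimage_of_isSepClosed {Z : Set X} (hZ : IsIrreducible Z) :
    IsIrreducible (Curv2.bcFst k X K ⁻¹' Z) := by
  let Ω := AlgebraicClosure K
  let k' := AlgebraicClosure k
  let j : k' →ₐ[k] Ω := IsAlgClosed.lift
  let _ : Algebra k' Ω := j.toRingHom.toAlgebra
  have : IsScalarTower k k' Ω := IsScalarTower.of_algebraMap_eq fun a => (j.commutes a).symm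
  let r := bcMap k X k' Ω
  have := geometricallyIrreducible_bcMap k X k' Ω
  have hp := isHomeomorph_bcFst k X k'
  let e := hp.homeomorph
  have h1 : IsIrreducible (Curv2.bcFst k X k' ⁻¹' Z) := by
    have := hZ.image e.symm e.symm.continuous.continuousOn
    rwa [Homeomorph.image_symm] at this
  have h2 := (r.isIrreducible_preimage r.isOpenMap h1).image (bcMap k X K Ω)
    (bcMap k X K Ω).continuous.continuousOn
  convert! h2 using 1
  ext z
  constructor
  · intro hz
    obtain ⟨w, rfl⟩ := (bcMap k X K Ω).surjective z
    refine ⟨w, ?_, rfl⟩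
    simp only [Set.mem_preimage] at hz ⊢
    rw [← Scheme.Hom.comp_apply, bcMap_fst] at hz ⊢
    exact hz
  · rintro ⟨w, hw, rfl⟩
    simp only [Set.mem_preimage] at hw ⊢
    rw [← Scheme.Hom.comp_apply, bcMap_fst] at hw ⊢
    exact hw

theorem geometricallyIrreducible_spec_of_isSepClosed :
    GeometricallyIrreducible (Spec.map (CommRingCat.ofHom (algebraMap k K))) := by
  constructor
  intro M _ y Z fst snd h
  let _ : (Spec (CommRingCat.of M)).Over (Spec (CommRingCat.of k)) := ⟨y⟩
  have hirr : IrreducibleSpace (pullback y (Spec.map (CommRingCat.ofHom (algebraMap k K))) : Scheme.{u}) := by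
    rw [irreducibleSpace_def]
    exact isIrreducible_preimage_of_isSepClosed k (Spec (CommRingCat.of M)) K
      (IrreducibleSpace.isIrreducible_univ _)
  exact h.flip.isoPullback.inv.homeomorph.surjective.irreducibleSpace h.flip.isoPullback.inv.continuous

theorem isConnected_preimage_of_isSepClosed {Z : Set X} (hZ : _root_.IsConnected Z) (hZ' : IsClosed Z) :
    _root_.IsConnected (Curv2.bcFst k X K ⁻¹' Z) := by
  have := geometricallyIrreducible_spec_of_isSepClosed k K
  have : GeometricallyConnected (Spec.map (CommRingCat.ofHom (algebraMap k K))) := by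
    refine ⟨fun M _ y Z fst snd h => ?_⟩
    have := this.geometrically_irreducibleSpace _ _ _ h
    infer_instance
  exact (Curv2.bcFst k X K).isConnected_preimage (Curv2.bcFst k X K).isOpenMap hZ hZ'

end sepClosed

theorem geometricallyIrreducible_bcMap_of_isSepClosed (L : Type u) [Field L] [Algebra k L]
    [Algebra K L] [IsScalarTower k K L] [IsSepClosed K] :
    GeometricallyIrreducible (bcMap k X K L) :=
  property_bcMap k X K L (geometricallyIrreducible_spec_of_isSepClosed K L)

theorem geometricallyIrreducible_iff_forall : GeometricallyIrreducible (X ↘ Spec (CommRingCat.of k)) ↔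
    ∀ (K : Type u) [Field K] [Algebra k K], IrreducibleSpace (Curv2.bc k X K) := by
  rw [geometricallyIrreducible_iff, geometrically_iff_of_commRing_of_isClosedUnderIsomorphisms]

theorem geometricallyConnected_iff_forall : GeometricallyConnected (X ↘ Spec (CommRingCat.of k)) ↔
    ∀ (K : Type u) [Field K] [Algebra k K], ConnectedSpace (Curv2.bc k X K) := by
  rw [geometricallyConnected_iff, geometrically_iff_of_commRing_of_isClosedUnderIsomorphisms]

theorem geometricallyIrreducible_of_irreducible_bc [IsSepClosed K] [IrreducibleSpace (Curv2.bc k X K)] :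
    GeometricallyIrreducible (X ↘ Spec (CommRingCat.of k)) := by
  rw [geometricallyIrreducible_iff_forall]
  intro L _ _
  obtain ⟨m, hm⟩ := Ideal.exists_maximal (K ⊗[k] L)
  let M := (K ⊗[k] L) ⧸ m
  let _ : Field M := Ideal.Quotient.field m
  let iL : L →ₐ[k] M := (Ideal.Quotient.mkₐ k m).comp Algebra.TensorProduct.includeRight
  let _ : Algebra L M := iL.toRingHom.toAlgebra
  have : IsScalarTower k L M := IsScalarTower.of_algebraMap_eq fun a => (iL.commutes a).symm
  have := geometricallyIrreducible_bcMap_of_isSepClosed k X K M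
  have := GeometricallyIrreducible.irreducibleSpace (bcMap k X K M) (bcMap k X K M).isOpenMap
  exact (bcMap k X L M).surjective.irreducibleSpace (bcMap k X L M).continuous

theorem geometricallyConnected_of_connected_bc [IsSepClosed K] [ConnectedSpace (Curv2.bc k X K)] :
    GeometricallyConnected (X ↘ Spec (CommRingCat.of k)) := by
  rw [geometricallyConnected_iff_forall]
  intro L _ _
  obtain ⟨m, hm⟩ := Ideal.exists_maximal (K ⊗[k] L)
  let M := (K ⊗[k] L) ⧸ m
  let _ : Field M := Ideal.Quotient.field m
  let iL : L →ₐ[k] M := (Ideal.Quotient.mkₐ k m).comp Algebra.TensorProduct.includeRight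
  let _ : Algebra L M := iL.toRingHom.toAlgebra
  have : IsScalarTower k L M := IsScalarTower.of_algebraMap_eq fun a => (iL.commutes a).symm
  have h := geometricallyIrreducible_bcMap_of_isSepClosed k X K M
  have : GeometricallyConnected (bcMap k X K M) := by
    refine ⟨fun F _ y Z fst snd hp => ?_⟩
    have := h.geometrically_irreducibleSpace _ _ _ hp
    infer_instance
  have := GeometricallyConnected.connectedSpace (bcMap k X K M) (bcMap k X K M).isOpenMap
  exact (bcMap k X L M).surjective.connectedSpace (bcMap k X L M).continuous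

/-- Irreducibility of the preimage of a set can be checked at a separably closed extension. -/
theorem isIrreducible_preimage_of_isSepClosed_level (L : Type u) [Field L] [Algebra k L] [IsSepClosed L]
    {S : Set X} (hS : IsIrreducible (Curv2.bcFst k X L ⁻¹' S)) :
    IsIrreducible (Curv2.bcFst k X K ⁻¹' S) := by
  obtain ⟨m, hm⟩ := Ideal.exists_maximal (L ⊗[k] K)
  let M := (L ⊗[k] K) ⧸ m
  let _ : Field M := Ideal.Quotient.field m
  let iK : K →ₐ[k] M := (Ideal.Quotient.mkₐ k m).comp Algebra.TensorProduct.includeRight
  let _ : Algebra K M := iK.toRingHom.toAlgebra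
  have : IsScalarTower k K M := IsScalarTower.of_algebraMap_eq fun a => (iK.commutes a).symm
  have := geometricallyIrreducible_bcMap_of_isSepClosed k X L M
  have h := ((bcMap k X L M).isIrreducible_preimage (bcMap k X L M).isOpenMap hS).image
    (bcMap k X K M) (bcMap k X K M).continuous.continuousOn
  convert! h using 1
  rw [← Set.preimage_comp, ← TopCat.coe_comp, ← Scheme.Hom.comp_base, bcMap_fst,
    ← bcMap_fst k X K M, Scheme.Hom.comp_base, TopCat.coe_comp, Set.preimage_comp,
    Set.image_preimage_eq _ (bcMap k X K M).surjective]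

section components

/-- A maximal point of `X_K` maps to a maximal point of `X`. -/
theorem eq_of_specializes_bcFst {t : Curv2.bc k X K}
    (ht : ∀ t', t' ⤳ t → t' = t) {y : X} (hy : y ⤳ Curv2.bcFst k X K t) :
    y = Curv2.bcFst k X K t := by
  obtain ⟨t', ht', rfl⟩ := Flat.generalizingMap (Curv2.bcFst k X K) hy
  rw [ht t' ht']

/-- The generic points of irreducible components of `X_K` are exactly its maximal points. -/
theorem eq_of_specializes_generic {Y : Scheme.{u}} {T : Set Y} (hT : T ∈ irreducibleComponents Y)
    {t : Y} (ht : IsGenericPoint t T) {t' : Y} (h : t' ⤳ t) : t' = t := by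
  have e : T = closure {t'} := hT.eq_of_le isIrreducible_singleton.closure (by
    rw [← ht.def]; exact h.closure_subset)
  exact IsGenericPoint.eq (S := closure {t'}) rfl (by rw [← e]; exact ht)

theorem closure_singleton_mem_irreducibleComponents {Y : Scheme.{u}} {y : Y}
    (hy : ∀ y', y' ⤳ y → y' = y) : closure {y} ∈ irreducibleComponents Y := by
  refine ⟨isIrreducible_singleton.closure, fun S hS hle => ?_⟩
  obtain ⟨c, hc⟩ := QuasiSober.sober hS.closure isClosed_closure
  have : c = y := hy c (hc.specializes (subset_closure (hle (subset_closure rfl))))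
  subst this
  rw [hc.def]
  exact subset_closure

theorem exists_generic {Y : Scheme.{u}} {T : Set Y} (hT : T ∈ irreducibleComponents Y) :
    ∃ t, IsGenericPoint t T :=
  QuasiSober.sober hT.1 (isClosed_of_mem_irreducibleComponents T hT)

/-- The image of an irreducible component of `X_K` is an irreducible component of `X`. -/
theorem image_irreducibleComponent {T : Set (Curv2.bc k X K)}
    (hT : T ∈ irreducibleComponents (Curv2.bc k X K)) {t : Curv2.bc k X K} (ht : IsGenericPoint t T) :
    Curv2.bcFst k X K '' T = closure {Curv2.bcFst k X K t} ∧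
      closure {Curv2.bcFst k X K t} ∈ irreducibleComponents X := by
  refine ⟨Set.Subset.antisymm ?_ ?_, closure_singleton_mem_irreducibleComponents
    fun y hy => eq_of_specializes_bcFst k X K (fun t' h => eq_of_specializes_generic hT ht h) hy⟩
  · rintro _ ⟨w, hw, rfl⟩
    exact ((ht.specializes hw).map (Curv2.bcFst k X K).continuous).mem_closure
  intro z hz
  let Ω := AlgebraicClosure K
  let k' := AlgebraicClosure k
  let j : k' →ₐ[k] Ω := IsAlgClosed.lift
  let _ : Algebra k' Ω := j.toRingHom.toAlgebra
  have : IsScalarTower k k' Ω := IsScalarTower.of_algebraMap_eq fun a => (j.commutes a).symm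
  let r := bcMap k X k' Ω
  let q := bcMap k X K Ω
  obtain ⟨t₁, ht₁⟩ := q.surjective t
  obtain ⟨T', hT', hsub⟩ := exists_mem_irreducibleComponents_subset_of_isIrreducible _
    (isIrreducible_singleton (x := t₁))
  obtain ⟨t', ht'⟩ := exists_generic hT'
  have hqt : q t' = t := eq_of_specializes_generic hT ht
    (ht₁ ▸ (ht'.specializes (hsub rfl)).map q.continuous)
  have := geometricallyIrreducible_bcMap k X k' Ω
  have hZ' : closure {r t'} ⊇ r '' T' := by
    rintro _ ⟨w, hw, rfl⟩
    exact ((ht'.specializes hw).map r.continuous).mem_closure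
  have hT'eq : r ⁻¹' closure {r t'} = T' :=
    (hT'.eq_of_le (r.isIrreducible_preimage r.isOpenMap isIrreducible_singleton.closure)
      (fun w hw => hZ' ⟨w, hw, rfl⟩)).symm
  have hcl : IsClosed (Curv2.bcFst k X k' '' closure {r t'}) :=
    (Curv2.bcFst k X k').isClosedMap _ isClosed_closure
  have hmem : Curv2.bcFst k X K t ∈ Curv2.bcFst k X k' '' closure {r t'} := by
    refine ⟨r t', subset_closure rfl, ?_⟩
    rw [← hqt, ← Scheme.Hom.comp_apply, ← Scheme.Hom.comp_apply, bcMap_fst, bcMap_fst]
  obtain ⟨v, hv, rfl⟩ := closure_minimal (Set.singleton_subset_iff.mpr hmem) hcl hz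
  obtain ⟨w, rfl⟩ := r.surjective v
  refine ⟨q w, ?_, ?_⟩
  · have hw : w ∈ T' := hT'eq ▸ hv
    rw [← ht.def]
    exact (hqt ▸ (ht'.specializes hw).map q.continuous).mem_closure
  · rw [← Scheme.Hom.comp_apply, ← Scheme.Hom.comp_apply, bcMap_fst, bcMap_fst]

/-- Over every maximal point of `X` there is a maximal point of `X_K`, above any given point. -/
theorem exists_component_over {Z : Set X} (hZ : Z ∈ irreducibleComponents X)
    (z : Curv2.bc k X K) (hz : Curv2.bcFst k X K z ∈ Z) :
    ∃ T ∈ irreducibleComponents (Curv2.bc k X K), z ∈ T ∧ Curv2.bcFst k X K '' T = Z := by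
  obtain ⟨η, hη⟩ := exists_generic hZ
  obtain ⟨z', hz', hz'η⟩ := Flat.generalizingMap (Curv2.bcFst k X K) (hη.specializes hz)
  obtain ⟨T, hT, hsub⟩ := exists_mem_irreducibleComponents_subset_of_isIrreducible _
    (isIrreducible_singleton (x := z'))
  obtain ⟨t, ht⟩ := exists_generic hT
  have hs : Curv2.bcFst k X K t ⤳ η :=
    hz'η ▸ (ht.specializes (hsub rfl)).map (Curv2.bcFst k X K).continuous
  refine ⟨T, hT, ((ht.specializes (hsub rfl)).trans hz').mem_closed
    (isClosed_of_mem_irreducibleComponents T hT) ht.mem, ?_⟩
  rw [(image_irreducibleComponent k X K hT ht).1, eq_of_specializes_generic hZ hη hs, hη.def]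

end components

end GrothLib.BaseChange
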