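import Groth.Agent.Lib.BaseChange.Irred
import Mathlib.AlgebraicGeometry.PullbackCarrier
import Mathlib.FieldTheory.IntermediateField.Adjoin.Algebra

/-!
Points of `X_L` for algebraic `L/k` are determined by their images at all finite levels.
-/

universe u

open CategoryTheory CategoryTheory.Limits AlgebraicGeometry TensorProduct

namespace GrothLib.BaseChange

section affine

variable {k A L : Type u} [Field k] [CommRing A] [Field L] [Algebra k A] [Algebra k L]
  [Algebra.IsAlgebraic k L]

/-- Every element of `A ⊗ L` comes from a finite subextension. -/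
theorem exists_mem_range_map (t : A ⊗[k] L) : ∃ (E : IntermediateField k L),
    FiniteDimensional k E ∧ t ∈ Set.range (Algebra.TensorProduct.map (AlgHom.id k A) E.val) := by
  induction t using TensorProduct.induction_on with
  | zero => exact ⟨⊥, inferInstance, 0, map_zero _⟩
  | tmul a l =>
    exact ⟨IntermediateField.adjoin k {l},
      IntermediateField.adjoin.finiteDimensional (Algebra.IsIntegral.isIntegral l),
      a ⊗ₜ ⟨l, IntermediateField.mem_adjoin_simple_self k l⟩, rfl⟩
  | add x y hx hy =>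
    obtain ⟨E, hE, x', rfl⟩ := hx
    obtain ⟨F, hF, y', rfl⟩ := hy
    have := hE
    have := hF
    refine ⟨E ⊔ F, inferInstance,
      Algebra.TensorProduct.map (AlgHom.id k A) (IntermediateField.inclusion le_sup_left) x' +
      Algebra.TensorProduct.map (AlgHom.id k A) (IntermediateField.inclusion le_sup_right) y', ?_⟩
    rw [map_add]
    have hc : ∀ (G : IntermediateField k L) (h : G ≤ E ⊔ F) (w : A ⊗[k] G),
        Algebra.TensorProduct.map (AlgHom.id k A) (E ⊔ F).val
          (Algebra.TensorProduct.map (AlgHom.id k A) (IntermediateField.inclusion h) w) =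
        Algebra.TensorProduct.map (AlgHom.id k A) G.val w := by
      intro G h w
      induction w using TensorProduct.induction_on with
      | zero => simp
      | tmul a l => simp
      | add u v hu hv => simp [map_add, hu, hv]
    rw [hc, hc]

end affine

variable (k : Type u) [Field k] (X : Scheme.{u}) [X.Over (Spec (CommRingCat.of k))]
variable (K : Type u) [Field K] [Algebra k K]

/-- The chart `Spec (Γ(U) ⊗ K) ⟶ X_K` of an affine open `U`. -/
theorem exists_chart {U : X.Opens} (hU : IsAffineOpen U) [Algebra k Γ(X, U)]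
    (halg : hU.fromSpec ≫ (X ↘ Spec (CommRingCat.of k)) =
      Spec.map (CommRingCat.ofHom (algebraMap k Γ(X, U)))) :
    ∃ q : Spec (CommRingCat.of (Γ(X, U) ⊗[k] K)) ⟶ Curv2.bc k X K, IsOpenImmersion q ∧
      q ≫ Curv2.bcFst k X K =
        Spec.map (CommRingCat.ofHom Algebra.TensorProduct.includeLeftRingHom) ≫ hU.fromSpec ∧
      q ≫ Curv2.bcSnd k X K =
        Spec.map (CommRingCat.ofHom (Algebra.TensorProduct.includeRight.toRingHom : K →+* Γ(X, U) ⊗[k] K)) ∧
      Set.range q = Curv2.bcFst k X K ⁻¹' (U : Set X) := by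
  let m := pullback.map (Spec.map (CommRingCat.ofHom (algebraMap k Γ(X, U))))
    (Spec.map (CommRingCat.ofHom (algebraMap k K))) (X ↘ Spec (CommRingCat.of k))
    (Spec.map (CommRingCat.ofHom (algebraMap k K))) hU.fromSpec (𝟙 _) (𝟙 _)
    (by rw [Category.comp_id, halg]) (by simp)
  have : IsOpenImmersion m := inferInstance
  refine ⟨(pullbackSpecIso k Γ(X, U) K).inv ≫ m, inferInstance, ?_, ?_, ?_⟩
  · rw [Category.assoc, show m ≫ Curv2.bcFst k X K = pullback.fst _ _ ≫ hU.fromSpec from
      pullback.lift_fst _ _ _, pullbackSpecIso_inv_fst_assoc]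
  · rw [Category.assoc, show m ≫ Curv2.bcSnd k X K = pullback.snd _ _ ≫ 𝟙 _ from
      pullback.lift_snd _ _ _, Category.comp_id, pullbackSpecIso_inv_snd]
    rfl
  · rw [Scheme.Hom.comp_base, TopCat.coe_comp, Set.range_comp,
      Set.range_eq_univ.mpr (pullbackSpecIso k Γ(X, U) K).inv.surjective, Set.image_univ,
      Scheme.Pullback.range_map, hU.range_fromSpec]
    simp

/-- Points of `X_L`, `L/k` algebraic, with equal images at every finite level are equal. -/
theorem eq_of_bcMap_eq (L : Type u) [Field L] [Algebra k L] [Algebra.IsAlgebraic k L]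
    (z₁ z₂ : Curv2.bc k X L) (hz : Curv2.bcFst k X L z₁ = Curv2.bcFst k X L z₂)
    (h : ∀ E : IntermediateField k L, FiniteDimensional k E → bcMap k X E L z₁ = bcMap k X E L z₂) :
    z₁ = z₂ := by
  obtain ⟨_, ⟨U, hU, rfl⟩, hxU, -⟩ := X.isBasis_affineOpens.exists_subset_of_mem_open
    (a := Curv2.bcFst k X L z₁) (Set.mem_univ _) isOpen_univ
  let φ : CommRingCat.of k ⟶ Γ(X, U) := Spec.preimage (hU.fromSpec ≫ (X ↘ Spec (CommRingCat.of k)))
  let _ : Algebra k Γ(X, U) := φ.hom.toAlgebra
  have halg : hU.fromSpec ≫ (X ↘ Spec (CommRingCat.of k)) =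
      Spec.map (CommRingCat.ofHom (algebraMap k Γ(X, U))) := (Spec.map_preimage _).symm
  obtain ⟨q, -, hq₁, hq₂, hqr⟩ := exists_chart k X L hU halg
  obtain ⟨P₁, rfl⟩ : z₁ ∈ Set.range q := by rw [hqr]; exact hxU
  obtain ⟨P₂, rfl⟩ : z₂ ∈ Set.range q := by
    rw [hqr, Set.mem_preimage, ← hz]
    exact hxU
  congr 1
  apply PrimeSpectrum.ext
  apply Ideal.ext
  intro t
  obtain ⟨E, hE, t', rfl⟩ := exists_mem_range_map t
  obtain ⟨qE, hqEo, hqE₁, hqE₂, -⟩ := exists_chart k X E hU halg
  let μ := Algebra.TensorProduct.map (AlgHom.id k Γ(X, U)) E.val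
  have hnat : q ≫ bcMap k X E L = Spec.map (CommRingCat.ofHom μ.toRingHom) ≫ qE := by
    apply pullback.hom_ext
    · rw [Category.assoc, bcMap_fst, hq₁, Category.assoc, hqE₁, ← Spec.map_comp_assoc,
        ← CommRingCat.ofHom_comp]
      congr 3
    · rw [Category.assoc, bcMap_snd, ← Category.assoc, hq₂, Category.assoc, hqE₂, ← Spec.map_comp,
        ← Spec.map_comp, ← CommRingCat.ofHom_comp, ← CommRingCat.ofHom_comp]
      congr 2
  have hpt := h E hE
  rw [← Scheme.Hom.comp_apply, ← Scheme.Hom.comp_apply, hnat, Scheme.Hom.comp_apply,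
    Scheme.Hom.comp_apply] at hpt
  have := congrArg (fun p => t' ∈ p.asIdeal) (qE.isOpenEmbedding.injective hpt)
  exact iff_of_eq this

end GrothLib.BaseChange
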