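import Groth.Agent.Lib.BaseChange.Finite
import Mathlib.AlgebraicGeometry.Morphisms.QuasiFinite
import Mathlib.AlgebraicGeometry.Morphisms.Finite
import Mathlib.FieldTheory.Galois.Basic
import Mathlib.FieldTheory.IsSepClosed

/-!
Connectedness and irreducibility of `X_L`, `L/k` algebraic, from the finite levels.
-/

universe u

open CategoryTheory CategoryTheory.Limits AlgebraicGeometry

namespace GrothLib.BaseChange

variable (k : Type u) [Field k] (X : Scheme.{u}) [X.Over (Spec (CommRingCat.of k))]

section algebraicTower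

variable (K L : Type u) [Field K] [Field L] [Algebra k K] [Algebra k L] [Algebra K L]
  [IsScalarTower k K L]

instance [Algebra.IsAlgebraic K L] : IsIntegralHom (bcMap k X K L) :=
  property_bcMap k X K L (IsIntegralHom.SpecMap_iff.mpr
    (algebraMap_isIntegral_iff.mpr inferInstance))

theorem bcMap_comp (M : Type u) [Field M] [Algebra k M] [Algebra K M] [Algebra L M]
    [IsScalarTower k K M] [IsScalarTower k L M] [IsScalarTower K L M] :
    bcMap k X L M ≫ bcMap k X K L = bcMap k X K M := by
  apply pullback.hom_ext
  · rw [Category.assoc, bcMap_fst, bcMap_fst, bcMap_fst]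
  · rw [Category.assoc, bcMap_snd, bcMap_snd_assoc, bcMap_snd, ← Spec.map_comp,
      ← CommRingCat.ofHom_comp, ← IsScalarTower.algebraMap_eq]

/-- The image of a connected component under `X_L ⟶ X_K` is a connected component. -/
theorem image_connectedComponent_bcMap (z : Curv2.bc k X L) :
    bcMap k X K L '' connectedComponent z = connectedComponent (bcMap k X K L z) := by
  let _ : (Curv2.bc k X K).Over (Spec (CommRingCat.of K)) := ⟨Curv2.bcSnd k X K⟩
  let e : Curv2.bc k X L ≅ Curv2.bc K (Curv2.bc k X K) L := (isPullback_bcMap k X K L).isoPullback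
  have he : e.hom ≫ Curv2.bcFst K (Curv2.bc k X K) L = bcMap k X K L :=
    (isPullback_bcMap k X K L).isoPullback_hom_fst
  have h := image_connectedComponent K (Curv2.bc k X K) L (e.hom z)
  have hc : connectedComponent (e.hom z) = e.hom '' connectedComponent z := by
    refine Set.Subset.antisymm ?_ (e.hom.continuous.image_connectedComponent_subset z)
    intro w hw
    refine ⟨e.inv w, ?_, by rw [← Scheme.Hom.comp_apply, e.inv_hom_id]; rfl⟩
    have := e.inv.continuous.mapsTo_connectedComponent (e.hom z) hw
    rwa [← Scheme.Hom.comp_apply, e.hom_inv_id] at this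
  rw [hc, ← Set.image_comp, ← TopCat.coe_comp, ← Scheme.Hom.comp_base, he] at h
  rw [h, ← Scheme.Hom.comp_apply, he]

end algebraicTower

/-- Fibres of `X_E ⟶ X` for finite `E/k` have no specializations. -/
theorem eq_of_specializes_of_finite (E : Type u) [Field E] [Algebra k E] [FiniteDimensional k E]
    {y y' : Curv2.bc k X E} (hs : y ⤳ y') (h : Curv2.bcFst k X E y = Curv2.bcFst k X E y') :
    y = y' := by
  have : IsFinite (Curv2.bcFst k X E) := MorphismProperty.pullback_fst _ _
    ((IsFinite.SpecMap_iff _).mpr (RingHom.finite_algebraMap.mpr inferInstance))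
  let F := Curv2.bcFst k X E ⁻¹' {Curv2.bcFst k X E y'}
  have : DiscreteTopology F :=
    ((Curv2.bcFst k X E).isDiscrete_preimage_singleton _).to_subtype
  have := (Topology.IsInducing.subtypeVal (t := F)).specializes_iff
    (x := ⟨y, h⟩) (y := ⟨y', rfl⟩) |>.mp hs
  exact congrArg Subtype.val (specializes_iff_eq.mp this)

variable (L : Type u) [Field L] [Algebra k L] [Algebra.IsAlgebraic k L]

theorem connectedSpace_of_finite
    (h : ∀ E : IntermediateField k L, FiniteDimensional k E → ConnectedSpace (Curv2.bc k X E)) :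
    ConnectedSpace (Curv2.bc k X L) := by
  classical
  obtain ⟨y₀⟩ := (h ⊥ inferInstance).toNonempty
  obtain ⟨z₀, -⟩ := (bcMap k X (⊥ : IntermediateField k L) L).surjective y₀
  refine connectedSpace_iff_connectedComponent.mpr ⟨z₀, Set.eq_univ_of_forall fun z₂ => ?_⟩
  let x := Curv2.bcFst k X L z₂
  let F := Curv2.bcFst k X L ⁻¹' {x}
  have hF : IsCompact F := (Curv2.bcFst k X L).isCompact_preimage_singleton x
  have key : ∀ E : IntermediateField k L, FiniteDimensional k E →
      ∃ c ∈ connectedComponent z₀, bcMap k X E L c = bcMap k X E L z₂ := by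
    intro E hE
    have := h E hE
    have : bcMap k X E L z₂ ∈ bcMap k X E L '' connectedComponent z₀ := by
      rw [image_connectedComponent_bcMap, PreconnectedSpace.connectedComponent_eq_univ]
      trivial
    obtain ⟨c, hc, hc'⟩ := this
    exact ⟨c, hc, hc'⟩
  let S : {E : IntermediateField k L // FiniteDimensional k E} → Set (Curv2.bc k X L) :=
    fun E => connectedComponent z₀ ∩
      bcMap k X E.1 L ⁻¹' closure {bcMap k X E.1 L z₂}
  have hne : (F ∩ ⋂ E, S E).Nonempty := by
    refine hF.inter_iInter_nonempty S (fun E => isClosed_connectedComponent.inter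
      (isClosed_closure.preimage (bcMap k X E.1 L).continuous)) fun u => ?_
    let E₀ : IntermediateField k L := ⨆ E ∈ u, E.1
    have : FiniteDimensional k E₀ := by
      have := fun E : {E : IntermediateField k L // FiniteDimensional k E} => E.2
      exact IntermediateField.finiteDimensional_iSup_of_finset
    obtain ⟨c, hc, hc'⟩ := key E₀ this
    refine ⟨c, ?_, Set.mem_iInter₂.mpr fun E hE => ⟨hc, ?_⟩⟩
    · show Curv2.bcFst k X L c = x
      simp only [x]
      rw [← bcMap_fst k X E₀ L, Scheme.Hom.comp_apply, hc', ← Scheme.Hom.comp_apply]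
    · have hle : E.1 ≤ E₀ := le_iSup₂ (f := fun E (_ : E ∈ u) => E.1) E hE
      let _ : Algebra E.1 E₀ := (IntermediateField.inclusion hle).toRingHom.toAlgebra
      have : IsScalarTower k E.1 E₀ := IsScalarTower.of_algebraMap_eq fun _ => rfl
      have : IsScalarTower E.1 E₀ L := IsScalarTower.of_algebraMap_eq fun _ => rfl
      apply subset_closure
      show bcMap k X E.1 L c = bcMap k X E.1 L z₂
      rw [← bcMap_comp k X E.1 E₀ L, Scheme.Hom.comp_apply, hc', ← Scheme.Hom.comp_apply]
  obtain ⟨c, hcF, hc⟩ := hne
  have hceq : c = z₂ := eq_of_bcMap_eq k X L c z₂ hcF fun E hE => by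
    have hs : bcMap k X E L z₂ ⤳ bcMap k X E L c :=
      specializes_iff_mem_closure.mpr (Set.mem_iInter.mp hc ⟨E, hE⟩).2
    have := hE
    refine (eq_of_specializes_of_finite k X E hs ?_).symm
    rw [← Scheme.Hom.comp_apply, ← Scheme.Hom.comp_apply, bcMap_fst]
    exact hcF.symm
  exact hceq ▸ (Set.mem_iInter.mp hc ⟨⊥, inferInstance⟩).1

theorem irreducibleSpace_of_finite
    (h : ∀ E : IntermediateField k L, FiniteDimensional k E → IrreducibleSpace (Curv2.bc k X E)) :
    IrreducibleSpace (Curv2.bc k X L) := by
  obtain ⟨y₀⟩ := (h ⊥ inferInstance).toNonempty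
  obtain ⟨z₀, -⟩ := (bcMap k X (⊥ : IntermediateField k L) L).surjective y₀
  obtain ⟨t, ht⟩ := exists_generic (irreducibleComponent_mem_irreducibleComponents z₀)
  have hgen : ∀ T ∈ irreducibleComponents (Curv2.bc k X L), ∀ t', IsGenericPoint t' T →
      ∀ E : IntermediateField k L, ∀ hE : FiniteDimensional k E,
      bcMap k X E L t' = letI := h E hE; genericPoint (Curv2.bc k X E) := by
    intro T hT t' ht' E hE
    let := h E hE
    obtain ⟨w, hw, hw'⟩ := Flat.generalizingMap (bcMap k X E L)
      (genericPoint_specializes (bcMap k X E L t'))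
    rw [← hw', eq_of_specializes_generic hT ht' hw]
  have hsp : ∀ z : Curv2.bc k X L, t ⤳ z := by
    intro z
    obtain ⟨T, hT, hsub⟩ := exists_mem_irreducibleComponents_subset_of_isIrreducible _
      (isIrreducible_singleton (x := z))
    obtain ⟨t', ht'⟩ := exists_generic hT
    have e : t' = t := by
      refine eq_of_bcMap_eq k X L t' t ?_ fun E hE => by
        rw [hgen T hT t' ht' E hE, hgen _ (irreducibleComponent_mem_irreducibleComponents z₀) t ht E hE]
      rw [← bcMap_fst k X (⊥ : IntermediateField k L) L, Scheme.Hom.comp_apply,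
        Scheme.Hom.comp_apply, hgen T hT t' ht' ⊥ inferInstance,
        hgen _ (irreducibleComponent_mem_irreducibleComponents z₀) t ht ⊥ inferInstance]
    exact e ▸ ht'.specializes (hsub rfl)
  rw [irreducibleSpace_def, Set.top_eq_univ]
  have : closure ({t} : Set (Curv2.bc k X L)) = Set.univ :=
    Set.eq_univ_of_forall fun z => (hsp z).mem_closure
  rw [← this]
  exact isIrreducible_singleton.closure

end GrothLib.BaseChange
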