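import Groth.Agent.Lib.BaseChange.Levels
import Mathlib.RingTheory.Polynomial.GaussLemma
import Mathlib.FieldTheory.PrimitiveElement
import Mathlib.Algebra.Polynomial.Eval.Irreducible
import Mathlib.FieldTheory.PurelyInseparable.Tower
import Mathlib.FieldTheory.AlgebraicClosure

/-!
If `k` is algebraically closed in the residue field of `x`, the fibre over `x` in `X_L`, `L/k`
separable algebraic, is a single point.
-/

universe u

open CategoryTheory CategoryTheory.Limits AlgebraicGeometry Polynomial

namespace GrothLib.BaseChange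

variable (k : Type u) [Field k] (X : Scheme.{u}) [X.Over (Spec (CommRingCat.of k))]

theorem fromSpecResidueField_over (x : X) :
    X.fromSpecResidueField x ≫ (X ↘ Spec (CommRingCat.of k)) =
      Spec.map (CommRingCat.ofHom (Curv2.resMap k X x)) := by
  have hf : X ↘ Spec (CommRingCat.of k) = X.toSpecΓ ≫ Spec.map (X ↘ Spec (CommRingCat.of k)).appTop ≫
      Spec.map (Scheme.ΓSpecIso (CommRingCat.of k)).inv := by
    rw [← Scheme.toSpecΓ_naturality_assoc, ← SpecMap_ΓSpecIso_hom, ← Spec.map_comp,
      Iso.inv_hom_id, Spec.map_id, Category.comp_id]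
  rw [Scheme.fromSpecResidueField, Category.assoc]
  conv_lhs => rw [hf]
  rw [Scheme.fromSpecStalk_toSpecΓ_assoc, ← Spec.map_comp, ← Spec.map_comp, ← Spec.map_comp]
  rfl

theorem exists_eq_fromSpecResidueField {Ω : Type u} [Field Ω] (P : Spec (CommRingCat.of Ω) ⟶ X)
    {x : X} (hx : P (default : Spec (CommRingCat.of Ω)) = x) :
    ∃ ι : X.residueField x ⟶ CommRingCat.of Ω, P = Spec.map ι ≫ X.fromSpecResidueField x := by
  obtain ⟨⟨y, ι⟩, rfl⟩ := (Scheme.SpecToEquivOfField Ω X).symm.surjective P
  simp only [Scheme.SpecToEquivOfField, Equiv.coe_fn_symm_mk] at hx ⊢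
  rw [Scheme.Hom.comp_apply, Scheme.fromSpecResidueField_apply] at hx
  subst hx
  exact ⟨ι, rfl⟩

/-- A separable irreducible polynomial over `k` stays irreducible over a field in which `k` is
separably closed. -/
theorem irreducible_map_of_sepClosedIn {κ : Type u} [Field κ] [Algebra k κ]
    (hκ : ∀ a : κ, IsSeparable k a → a ∈ (algebraMap k κ).range)
    {p : k[X]} (hp : p.Monic) (hirr : Irreducible p) (hsep : p.Separable) :
    Irreducible (p.map (algebraMap k κ)) := by
  let M := algebraicClosure k κ
  have : IsPurelyInseparable k M := ⟨inferInstance, fun a ha => by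
    have h : IsSeparable k (a : κ) := by
      rw [IsSeparable, show minpoly k (a : κ) = minpoly k a from minpoly.algHom_eq M.val M.val.injective a]
      exact ha
    obtain ⟨c, hc⟩ := hκ a h
    exact ⟨c, Subtype.ext hc⟩⟩
  have hM : Irreducible (p.map (algebraMap k M)) :=
    hsep.map_irreducible_of_isPurelyInseparable M hirr
  set q := p.map (algebraMap k κ) with hq
  have hqm : q.Monic := hp.map _
  have hnu : ¬ IsUnit q := fun h => by
    have := natDegree_eq_zero_of_isUnit h
    rw [hq, hp.natDegree_map] at this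
    exact hirr.natDegree_pos.ne' this
  obtain ⟨g, hgirr, hgdvd⟩ := WfDvdMonoid.exists_irreducible_factor hnu hqm.ne_zero
  let g' := g * C g.leadingCoeff⁻¹
  have hg'm : g'.Monic := monic_mul_leadingCoeff_inv hgirr.ne_zero
  have hg'a : Associated g g' :=
    ⟨(isUnit_C.mpr (isUnit_iff_ne_zero.mpr (inv_ne_zero (leadingCoeff_ne_zero.mpr hgirr.ne_zero)))).unit,
      rfl⟩
  have hg'dvd : g' ∣ q := hg'a.dvd_iff_dvd_left.mp hgdvd
  have hg'irr : Irreducible g' := hg'a.irreducible hgirr
  obtain ⟨g₁, hg₁⟩ := integralClosure.mem_lifts_of_monic_of_dvd_map κ hp hg'm hg'dvd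
  have hlift : g' ∈ lifts (algebraMap M κ) := by
    rw [lifts_iff_coeff_lifts]
    intro n
    refine ⟨⟨g'.coeff n, ?_⟩, rfl⟩
    rw [← hg₁]
    simp only [coe_mapRingHom, coeff_map]
    exact mem_algebraicClosure_iff.mpr (g₁.coeff n).2.isAlgebraic
  obtain ⟨g₀, hg₀, -, hg₀m⟩ := lifts_and_degree_eq_and_monic hlift hg'm
  have hqM : (p.map (algebraMap k M)).map (algebraMap M κ) = q := by
    rw [Polynomial.map_map, ← IsScalarTower.algebraMap_eq]
  have hdvd : g₀ ∣ p.map (algebraMap k M) :=
    (Polynomial.map_dvd_map' (algebraMap M κ)).mp (by rw [hg₀, hqM]; exact hg'dvd)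
  have : g₀ = p.map (algebraMap k M) := eq_of_monic_of_associated hg₀m (hp.map _)
    ((Monic.irreducible_of_irreducible_map (algebraMap M κ) g₀ hg₀m (hg₀.symm ▸ hg'irr)).associated_of_dvd
      hM hdvd)
  rw [show q = g' by rw [← hg₀, this, hqM]]
  exact hg'irr

/-- If `k` is separably closed in `κ(x)`, the fibre of `X_E` over `x` is one point for finite
separable `E/k`. -/
theorem eq_of_sepClosedIn {x : X}
    (hx : letI := (Curv2.resMap k X x).toAlgebra
      ∀ a : X.residueField x, IsSeparable k a → a ∈ (algebraMap k (X.residueField x)).range)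
    (E : Type u) [Field E] [Algebra k E] [FiniteDimensional k E] [Algebra.IsSeparable k E]
    (y₁ y₂ : Curv2.bc k X E) (h₁ : Curv2.bcFst k X E y₁ = x) (h₂ : Curv2.bcFst k X E y₂ = x) :
    y₁ = y₂ := by
  let κ := X.residueField x
  let _ : Algebra k κ := (Curv2.resMap k X x).toAlgebra
  let pb := Field.powerBasisOfFiniteOfSeparable k E
  let p := minpoly k pb.gen
  have hp : p.Monic := minpoly.monic (Algebra.IsIntegral.isIntegral _)
  let q := p.map (algebraMap k κ)
  have hqm : q.Monic := hp.map _
  have hirr : Irreducible q := irreducible_map_of_sepClosedIn k hx hp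
    (minpoly.irreducible (Algebra.IsIntegral.isIntegral _)) (Algebra.IsSeparable.isSeparable k pb.gen)
  have : Fact (Irreducible q) := ⟨hirr⟩
  let F := AdjoinRoot q
  let _ : Algebra k F := inferInstance
  have hroot : aeval (AdjoinRoot.root q) p = 0 := by
    rw [← aeval_map_algebraMap κ]
    exact AdjoinRoot.eval₂_root q
  let eF : E →ₐ[k] F := pb.lift (AdjoinRoot.root q) hroot
  let M : Spec (CommRingCat.of F) ⟶ Curv2.bc k X E :=
    pullback.lift (Spec.map (CommRingCat.ofHom (algebraMap κ F)) ≫ X.fromSpecResidueField x)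
      (Spec.map (CommRingCat.ofHom (eF : E →+* F))) (by
        rw [Category.assoc, fromSpecResidueField_over, ← Spec.map_comp, ← Spec.map_comp]
        congr 1
        ext c
        exact (eF.commutes c).symm)
  have key : ∀ y : Curv2.bc k X E, Curv2.bcFst k X E y = x →
      y = M (default : Spec (CommRingCat.of F)) := by
    intro y hy
    let Ω := (Curv2.bc k X E).residueField y
    let Q : Spec (CommRingCat.of Ω) ⟶ Curv2.bc k X E := (Curv2.bc k X E).fromSpecResidueField y
    have hQ : Q (default : Spec (CommRingCat.of Ω)) = y := Scheme.fromSpecResidueField_apply _ _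
    obtain ⟨ι, hι⟩ := exists_eq_fromSpecResidueField X (Q ≫ Curv2.bcFst k X E) (x := x)
      (by rw [Scheme.Hom.comp_apply, hQ, hy])
    let φ := Spec.preimage (Q ≫ Curv2.bcSnd k X E)
    have hc : CommRingCat.ofHom (algebraMap k E) ≫ φ =
        CommRingCat.ofHom (Curv2.resMap k X x) ≫ ι := by
      apply Spec.map_injective
      rw [Spec.map_comp, Spec.map_comp, Spec.map_preimage, Category.assoc, ← pullback.condition,
        ← fromSpecResidueField_over, ← Category.assoc (Spec.map ι), ← hι, Category.assoc]
    let _ : Algebra κ Ω := ι.hom.toAlgebra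
    let _ : Algebra k Ω := (ι.hom.comp (Curv2.resMap k X x)).toAlgebra
    have : IsScalarTower k κ Ω := IsScalarTower.of_algebraMap_eq fun _ => rfl
    let φ' : E →ₐ[k] Ω :=
      { toRingHom := φ.hom
        commutes' := fun c => congrArg (fun e => e.hom c) hc }
    have hz : q.eval₂ (algebraMap κ Ω) (φ' pb.gen) = 0 := by
      show aeval (φ' pb.gen) q = 0
      rw [aeval_map_algebraMap, aeval_algHom_apply, minpoly.aeval, map_zero]
    let a : F →+* Ω := AdjoinRoot.lift (algebraMap κ Ω) (φ' pb.gen) hz
    have ha : Q = Spec.map (CommRingCat.ofHom a) ≫ M := by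
      apply pullback.hom_ext
      · rw [Category.assoc, pullback.lift_fst, ← Spec.map_comp_assoc]
        refine hι.trans ?_
        congr 2
        ext c
        exact (AdjoinRoot.lift_of hz).symm
      · rw [Category.assoc, pullback.lift_snd, ← Spec.map_comp]
        refine (Spec.map_preimage _).symm.trans ?_
        congr 1
        let a' : F →ₐ[k] Ω :=
          { toRingHom := a
            commutes' := fun c => AdjoinRoot.lift_of hz }
        have he : φ' = a'.comp eF := pb.algHom_ext (by
          show φ' pb.gen = a (eF pb.gen)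
          rw [pb.lift_gen]
          exact (AdjoinRoot.lift_root hz).symm)
        ext e
        exact AlgHom.congr_fun he e
    rw [← hQ, ha, Scheme.Hom.comp_apply]
    exact congrArg M (Subsingleton.elim (α := Spec (CommRingCat.of F)) _ _)
  rw [key y₁ h₁, key y₂ h₂]

/-- If `k` is algebraically closed in `κ(x)`, the fibre of `X_E` over `x` is one point for finite
separable `E/k`. -/
theorem eq_of_algClosedIn {x : X}
    (hx : ∀ a : X.residueField x, (Curv2.resMap k X x).IsIntegralElem a → a ∈ (Curv2.resMap k X x).range)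
    (E : Type u) [Field E] [Algebra k E] [FiniteDimensional k E] [Algebra.IsSeparable k E]
    (y₁ y₂ : Curv2.bc k X E) (h₁ : Curv2.bcFst k X E y₁ = x) (h₂ : Curv2.bcFst k X E y₂ = x) :
    y₁ = y₂ := by
  refine eq_of_sepClosedIn k X ?_ E y₁ y₂ h₁ h₂
  let _ : Algebra k (X.residueField x) := (Curv2.resMap k X x).toAlgebra
  exact fun a ha => hx a ha.isIntegral

/-- The fibre over a point at which `k` is separably closed in the residue field, `L/k` separable. -/
theorem eq_of_sepClosedIn_separable {x : X}
    (hx : letI := (Curv2.resMap k X x).toAlgebra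
      ∀ a : X.residueField x, IsSeparable k a → a ∈ (algebraMap k (X.residueField x)).range)
    (L : Type u) [Field L] [Algebra k L] [Algebra.IsSeparable k L]
    (z₁ z₂ : Curv2.bc k X L) (h₁ : Curv2.bcFst k X L z₁ = x) (h₂ : Curv2.bcFst k X L z₂ = x) :
    z₁ = z₂ := by
  refine eq_of_bcMap_eq k X L z₁ z₂ (h₁.trans h₂.symm) fun E hE => ?_
  have := hE
  refine eq_of_sepClosedIn k X hx E _ _ ?_ ?_
  · rw [← Scheme.Hom.comp_apply, bcMap_fst, h₁]
  · rw [← Scheme.Hom.comp_apply, bcMap_fst, h₂]

/-- The fibre over such a point in `X_L` is a single point, `L/k` separable algebraic. -/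
theorem eq_of_algClosedIn_separable {x : X}
    (hx : ∀ a : X.residueField x, (Curv2.resMap k X x).IsIntegralElem a → a ∈ (Curv2.resMap k X x).range)
    (L : Type u) [Field L] [Algebra k L] [Algebra.IsSeparable k L]
    (z₁ z₂ : Curv2.bc k X L) (h₁ : Curv2.bcFst k X L z₁ = x) (h₂ : Curv2.bcFst k X L z₂ = x) :
    z₁ = z₂ := by
  refine eq_of_bcMap_eq k X L z₁ z₂ (h₁.trans h₂.symm) fun E hE => ?_
  have := hE
  refine eq_of_algClosedIn k X hx E _ _ ?_ ?_
  · rw [← Scheme.Hom.comp_apply, bcMap_fst, h₁]
  · rw [← Scheme.Hom.comp_apply, bcMap_fst, h₂]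

end GrothLib.BaseChange
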