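import Mathlib.Topology.Connected.Clopen
import Mathlib.Topology.Compactness.Compact
import Mathlib.Topology.Maps.Basic
import Mathlib.Order.Zorn

/-!
A closed map with compact fibres, whose fibres are homogeneous for a family of homeomorphisms over
the base, maps connected components onto connected sets of the base.
-/

open Set

namespace GrothLib.BaseChange

variable {E D : Type*} [TopologicalSpace E] [TopologicalSpace D] {p : E → D} {Γ : Set (E ≃ₜ E)}

omit [TopologicalSpace D] in
theorem image_eq_of_over (hover : ∀ g ∈ Γ, ∀ z, p (g z) = p z) {g : E ≃ₜ E} (hg : g ∈ Γ)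
    (C : Set D) : g '' (p ⁻¹' C) = p ⁻¹' C := by
  ext z
  constructor
  · rintro ⟨w, hw, rfl⟩
    simpa [hover g hg w] using hw
  · intro hz
    refine ⟨g.symm z, ?_, g.apply_symm_apply z⟩
    rw [mem_preimage, ← hover g hg, g.apply_symm_apply]
    exact hz

/-- Let `p` be a closed continuous map with compact fibres and `Γ` a family of homeomorphisms over
the base acting transitively on fibres. Every point `x` over a closed preconnected set `C` lies in a
preconnected set that surjects onto `C`. -/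
theorem exists_preconnected_image_eq (hp : Continuous p) (hcl : IsClosedMap p)
    (hfib : ∀ d, IsCompact (p ⁻¹' {d})) (hover : ∀ g ∈ Γ, ∀ z, p (g z) = p z)
    (htrans : ∀ z₁ z₂, p z₁ = p z₂ → ∃ g ∈ Γ, g z₁ = z₂)
    {C : Set D} (hC : IsPreconnected C) (hCcl : IsClosed C) (hsurj : C ⊆ range p) {x : E}
    (hx : p x ∈ C) : ∃ S : Set E, IsPreconnected S ∧ x ∈ S ∧ p '' S = C := by
  classical
  -- blocks
  let 𝒮 : Set (Set E) := {S | IsClosed S ∧ x ∈ S ∧ p '' S = C ∧
    ∀ g ∈ Γ, (∃ z ∈ S, g z ∈ S) → g '' S = S}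
  have h0 : p ⁻¹' C ∈ 𝒮 := by
    refine ⟨hCcl.preimage hp, hx, ?_, fun g hg _ => image_eq_of_over hover hg C⟩
    rw [image_preimage_eq_inter_range, inter_eq_left]
    exact hsurj
  obtain ⟨S, -, hmin⟩ := zorn_superset_nonempty 𝒮 (fun c hc hchain hne => by
    refine ⟨⋂₀ c, ⟨isClosed_sInter fun s hs => (hc hs).1, fun s hs => (hc hs).2.1, ?_, ?_⟩,
      fun s hs => sInter_subset_of_mem hs⟩
    · refine Subset.antisymm ?_ fun d hd => ?_
      · obtain ⟨s, hs⟩ := hne
        exact (image_mono (sInter_subset_of_mem hs)).trans (hc hs).2.2.1.le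
      · have := hne.to_subtype
        have hne' : (p ⁻¹' {d} ∩ ⋂ s : c, (s : Set E)).Nonempty := by
          refine (hfib d).inter_iInter_nonempty (fun s : c => (s : Set E)) (fun s => (hc s.2).1)
            fun u => ?_
          obtain ⟨m, hm⟩ : ∃ m : c, ∀ s ∈ u, (m : Set E) ⊆ s := by
            induction u using Finset.induction_on with
            | empty => exact ⟨Classical.arbitrary c, by simp⟩
            | insert a u _ ih =>
              obtain ⟨m, hm⟩ := ih
              rcases hchain.total a.2 m.2 with h | h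
              · exact ⟨a, fun s hs => (Finset.mem_insert.mp hs).elim (fun e => by rw [e])
                  fun hs => h.trans (hm s hs)⟩
              · exact ⟨m, fun s hs => (Finset.mem_insert.mp hs).elim (fun e => e ▸ h) (hm s)⟩
          obtain ⟨z, hz, hzd⟩ : d ∈ p '' (m : Set E) := by
            rw [(hc m.2).2.2.1]; exact hd
          exact ⟨z, hzd, mem_iInter₂.mpr fun s hs => hm s hs hz⟩
        obtain ⟨z, hzd, hz⟩ := hne'
        exact ⟨z, fun s hs => mem_iInter.mp hz ⟨s, hs⟩, hzd⟩
    · rintro g hg ⟨z, hz, hgz⟩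
      have hcov : ∀ s ∈ c, g '' s = s := fun s hs => (hc hs).2.2.2 g hg ⟨z, hz s hs, hgz s hs⟩
      rw [sInter_eq_biInter, image_iInter₂ g.bijective]
      exact iInter₂_congr hcov) _ h0
  obtain ⟨hScl, hxS, hpS, hblock⟩ := hmin.prop
  -- clopen pieces of `S`
  let P : Set E → Prop := fun B => IsClosed B ∧ B ⊆ S ∧ IsClosed (closure (S \ B)) ∧
    Disjoint B (closure (S \ B))
  have hPdiff : ∀ B, P B → closure (S \ B) = S \ B := fun B hB =>
    Subset.antisymm (subset_sdiff.mpr ⟨(closure_mono sdiff_subset).trans hScl.closure_eq.le,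
      hB.2.2.2.symm⟩) subset_closure
  have hPcompl : ∀ B, P B → P (S \ B) := fun B hB => by
    have h1 : IsClosed (S \ B) := by rw [← hPdiff B hB]; exact isClosed_closure
    have h2 : S \ (S \ B) = B := sdiff_sdiff_cancel_left hB.2.1
    refine ⟨h1, sdiff_subset, isClosed_closure, ?_⟩
    rw [h2, hB.1.closure_eq]
    exact disjoint_sdiff_left
  have hPmap : ∀ g ∈ Γ, g '' S = S → ∀ B, P B → P (g '' B) := fun g hg hgS B hB => by
    refine ⟨g.isClosedMap _ hB.1, (image_mono hB.2.1).trans hgS.le, isClosed_closure, ?_⟩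
    have e : S \ g '' B = g '' (S \ B) := by rw [image_sdiff g.injective, hgS]
    rw [e, ← g.image_closure]
    exact (disjoint_image_iff g.injective).mpr hB.2.2.2
  -- every nonempty clopen piece surjects onto `C`
  have hsurjP : ∀ B, P B → B.Nonempty → p '' B = C := by
    intro B hB hBne
    let T := S ∩ ⋂ g ∈ {g ∈ Γ | g '' S = S}, g '' (S \ B)
    have hTcl : IsClosed T := hScl.inter (isClosed_biInter fun g _ =>
      g.isClosedMap _ (hPcompl B hB).1)
    have hdisj : Disjoint (p '' B) (p '' T) := by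
      rw [Set.disjoint_left]
      rintro d ⟨b, hb, rfl⟩ ⟨s, hs, hsd⟩
      obtain ⟨g, hg, rfl⟩ := htrans b s hsd.symm
      have hgS : g '' S = S := hblock g hg ⟨b, hB.2.1 hb, hs.1⟩
      obtain ⟨w, hw, hwe⟩ := mem_iInter₂.mp hs.2 g ⟨hg, hgS⟩
      exact hw.2 (g.injective hwe ▸ hb)
    have hcover : C ⊆ p '' B ∪ p '' T := by
      intro d hd
      obtain ⟨s, hs, rfl⟩ : d ∈ p '' S := by rw [hpS]; exact hd
      by_cases h : s ∈ T
      · exact Or.inr ⟨s, h, rfl⟩
      · simp only [T, mem_inter_iff, hs, true_and, mem_iInter, not_forall] at h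
        obtain ⟨g, ⟨hg, hgS⟩, hns⟩ := h
        obtain ⟨w, hw, rfl⟩ : s ∈ g '' S := by rw [hgS]; exact hs
        refine Or.inl ⟨w, by_contra fun hwB => hns ⟨w, ⟨hw, hwB⟩, rfl⟩, (hover g hg w).symm⟩
    have hsub : p '' B ⊆ C := (image_mono hB.2.1).trans hpS.le
    refine hsub.antisymm ?_
    rcases (isPreconnected_iff_subset_of_fully_disjoint_closed hCcl).mp hC _ _ (hcl _ hB.1)
      (hcl _ hTcl) hcover hdisj with h | h
    · exact h
    · obtain ⟨b, hb⟩ := hBne
      exact absurd (h (hsub ⟨b, hb, rfl⟩)) (Set.disjoint_left.mp hdisj ⟨b, hb, rfl⟩)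
  have hPinter : ∀ A B, P A → P B → P (A ∩ B) := fun A B hA hB => by
    refine ⟨hA.1.inter hB.1, inter_subset_left.trans hA.2.1, isClosed_closure, ?_⟩
    rw [sdiff_inter, closure_union, disjoint_union_right]
    exact ⟨hA.2.2.2.mono_left inter_subset_left, hB.2.2.2.mono_left inter_subset_right⟩
  have hPS : P S := ⟨hScl, subset_rfl, isClosed_closure, by simp⟩
  let Q : E → Set E := fun y => ⋂ B ∈ {B | P B ∧ y ∈ B}, B
  have hQmem : ∀ y, y ∈ Q y := fun y => mem_iInter₂.mpr fun B hB => hB.2
  have hQeq : ∀ y z, y ∈ S → z ∈ Q y → Q z = Q y := by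
    intro y z hy hz
    have key : ∀ B, P B → (y ∈ B ↔ z ∈ B) := fun B hB =>
      ⟨fun h => mem_iInter₂.mp hz B ⟨hB, h⟩, fun h => by_contra fun h' =>
        (mem_iInter₂.mp hz (S \ B) ⟨hPcompl B hB, hy, h'⟩).2 h⟩
    ext w
    simp only [Q, mem_iInter₂, mem_ofPred_eq]
    exact ⟨fun h B hB => h B ⟨hB.1, (key B hB.1).mp hB.2⟩,
      fun h B hB => h B ⟨hB.1, (key B hB.1).mpr hB.2⟩⟩
  have hQS : Q x = S := by
    refine hmin.eq_of_le ⟨?_, hQmem x, ?_, ?_⟩ (biInter_subset_of_mem (show S ∈ {B | P B ∧ x ∈ B}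
      from ⟨hPS, hxS⟩))
    · exact isClosed_biInter fun B hB => hB.1.1
    · refine Subset.antisymm ((image_mono (biInter_subset_of_mem
        (show S ∈ {B | P B ∧ x ∈ B} from ⟨hPS, hxS⟩))).trans hpS.le) fun d hd => ?_
      have hne' : (p ⁻¹' {d} ∩ ⋂ B : {B : Set E // P B ∧ x ∈ B}, (B : Set E)).Nonempty := by
        refine (hfib d).inter_iInter_nonempty (fun B : {B : Set E // P B ∧ x ∈ B} => (B : Set E))
          (fun B => B.2.1.1) fun u => ?_
        obtain ⟨B₀, hB₀, hsub⟩ : ∃ B₀, (P B₀ ∧ x ∈ B₀) ∧ ∀ B ∈ u, B₀ ⊆ (B : Set E) := by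
          induction u using Finset.induction_on with
          | empty => exact ⟨S, ⟨hPS, hxS⟩, by simp⟩
          | insert a u _ ih =>
            obtain ⟨B₀, hB₀, hsub⟩ := ih
            refine ⟨(a : Set E) ∩ B₀, ⟨hPinter _ _ a.2.1 hB₀.1, a.2.2, hB₀.2⟩, fun B hB => ?_⟩
            rcases Finset.mem_insert.mp hB with rfl | hB
            · exact inter_subset_left
            · exact inter_subset_right.trans (hsub B hB)
        obtain ⟨z, hz, hzd⟩ : d ∈ p '' B₀ := by rw [hsurjP _ hB₀.1 ⟨x, hB₀.2⟩]; exact hd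
        exact ⟨z, hzd, mem_iInter₂.mpr fun B hB => hsub B hB hz⟩
      obtain ⟨z, hzd, hz⟩ := hne'
      exact ⟨z, mem_iInter₂.mpr fun B hB => mem_iInter.mp hz ⟨B, hB⟩, hzd⟩
    · rintro g hg ⟨z, hz, hgz⟩
      have hQsubS : Q x ⊆ S := biInter_subset_of_mem
        (show S ∈ {B | P B ∧ x ∈ B} from ⟨hPS, hxS⟩)
      have hgS : g '' S = S := hblock g hg ⟨z, hQsubS hz, hQsubS hgz⟩
      have hgS' : g.symm '' S = S := by
        conv_lhs => rw [← hgS]
        rw [← image_comp]
        simp
      have hP' : ∀ B, P B → P (g ⁻¹' B) := fun B hB => by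
        rw [← g.image_symm]
        refine ⟨g.symm.isClosedMap _ hB.1, (image_mono hB.2.1).trans hgS'.le, isClosed_closure, ?_⟩
        have e : S \ g.symm '' B = g.symm '' (S \ B) := by
          rw [image_sdiff g.symm.injective, hgS']
        rw [e, ← g.symm.image_closure]
        exact (disjoint_image_iff g.symm.injective).mpr hB.2.2.2
      rw [← hQeq x z hxS hz]
      conv_rhs => rw [hQeq x z hxS hz, ← hQeq x (g z) hxS hgz]
      ext w
      simp only [Q, g.image_eq_preimage_symm, mem_preimage, mem_iInter₂, mem_ofPred_eq]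
      constructor
      · intro h B hB
        have := h (g ⁻¹' B) ⟨hP' B hB.1, hB.2⟩
        simpa using this
      · intro h B hB
        have := h (g '' B) ⟨hPmap g hg hgS B hB.1, mem_image_of_mem g hB.2⟩
        rwa [g.image_eq_preimage_symm, mem_preimage] at this
  refine ⟨S, (isPreconnected_iff_subset_of_fully_disjoint_closed hScl).mpr ?_, hxS, hpS⟩
  intro u v hu hv huv hd
  have hPu : ∀ u v, IsClosed u → IsClosed v → S ⊆ u ∪ v → Disjoint u v → P (S ∩ u) := by
    intro u v hu hv huv hd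
    have e : S \ (S ∩ u) = S ∩ v := by
      ext w
      simp only [mem_sdiff, mem_inter_iff, not_and]
      exact ⟨fun h => ⟨h.1, (huv h.1).resolve_left (h.2 h.1)⟩,
        fun h => ⟨h.1, fun _ hu' => Set.disjoint_left.mp hd hu' h.2⟩⟩
    refine ⟨hScl.inter hu, inter_subset_left, isClosed_closure, ?_⟩
    rw [e, (hScl.inter hv).closure_eq]
    exact (hd.mono inter_subset_right inter_subset_right)
  rcases huv hxS with h | h
  · left
    conv_lhs => rw [← hQS]
    exact (biInter_subset_of_mem (show S ∩ u ∈ {B | P B ∧ x ∈ B} from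
      ⟨hPu u v hu hv huv hd, hxS, h⟩)).trans inter_subset_right
  · right
    conv_lhs => rw [← hQS]
    exact (biInter_subset_of_mem (show S ∩ v ∈ {B | P B ∧ x ∈ B} from
      ⟨hPu v u hv hu (by rwa [union_comm]) hd.symm, hxS, h⟩)).trans inter_subset_right

/-- The connected component of a point maps onto the connected component of its image. -/
theorem image_connectedComponent_eq (hp : Continuous p) (hcl : IsClosedMap p)
    (hfib : ∀ d, IsCompact (p ⁻¹' {d})) (hover : ∀ g ∈ Γ, ∀ z, p (g z) = p z)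
    (htrans : ∀ z₁ z₂, p z₁ = p z₂ → ∃ g ∈ Γ, g z₁ = z₂) (hsurj : Function.Surjective p) (x : E) :
    p '' connectedComponent x = connectedComponent (p x) := by
  refine (hp.image_connectedComponent_subset x).antisymm ?_
  obtain ⟨S, hS, hxS, hpS⟩ := exists_preconnected_image_eq hp hcl hfib hover htrans
    isPreconnected_connectedComponent isClosed_connectedComponent
    (fun d _ => hsurj d) (x := x) mem_connectedComponent
  rw [← hpS]
  exact image_mono (hS.subset_connectedComponent hxS)

end GrothLib.BaseChange
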