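import Groth.Prelude.Def_Curv2
import Groth.Agent.Lib.BaseChange.Topology
import Groth.Agent.Lib.GrpSchField.Components
import Mathlib.AlgebraicGeometry.Geometrically.Connected
import Mathlib.FieldTheory.Normal.Defs
import Mathlib.FieldTheory.IsAlgClosed.AlgebraicClosure
import Mathlib.AlgebraicGeometry.Morphisms.UniversallyOpen
import Mathlib.AlgebraicGeometry.Morphisms.Integral
import Mathlib.AlgebraicGeometry.Morphisms.Flat

/-!
Base change of a scheme over a field to a field extension: transitivity maps, Galois action,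
connected and irreducible components.
-/

universe u

open CategoryTheory CategoryTheory.Limits AlgebraicGeometry

namespace GrothLib.BaseChange

variable (k : Type u) [Field k] (X : Scheme.{u}) [X.Over (Spec (CommRingCat.of k))]

section trans

variable (K L : Type u) [Field K] [Field L] [Algebra k K] [Algebra k L] [Algebra K L]
  [IsScalarTower k K L]

theorem spec_tower : Spec.map (CommRingCat.ofHom (algebraMap K L)) ≫
    Spec.map (CommRingCat.ofHom (algebraMap k K)) = Spec.map (CommRingCat.ofHom (algebraMap k L)) := by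
  rw [← Spec.map_comp, ← CommRingCat.ofHom_comp, ← IsScalarTower.algebraMap_eq]

/-- The map `X_L ⟶ X_K` for a tower `k ⊆ K ⊆ L`. -/
noncomputable def bcMap : Curv2.bc k X L ⟶ Curv2.bc k X K :=
  pullback.lift (Curv2.bcFst k X L)
    (Curv2.bcSnd k X L ≫ Spec.map (CommRingCat.ofHom (algebraMap K L)))
    (by rw [Category.assoc, spec_tower]; exact pullback.condition)

@[reassoc (attr := simp)]
theorem bcMap_fst : bcMap k X K L ≫ Curv2.bcFst k X K = Curv2.bcFst k X L := pullback.lift_fst _ _ _

@[reassoc (attr := simp)]
theorem bcMap_snd : bcMap k X K L ≫ Curv2.bcSnd k X K =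
    Curv2.bcSnd k X L ≫ Spec.map (CommRingCat.ofHom (algebraMap K L)) := pullback.lift_snd _ _ _

theorem isPullback_bcMap : IsPullback (bcMap k X K L) (Curv2.bcSnd k X L) (Curv2.bcSnd k X K)
    (Spec.map (CommRingCat.ofHom (algebraMap K L))) := by
  refine IsPullback.of_right ?_ (bcMap_snd k X K L) (IsPullback.of_hasPullback _ _)
  rw [bcMap_fst, spec_tower]
  exact IsPullback.of_hasPullback _ _

/-- The projection of a base change is a base change of `Spec L ⟶ Spec K`. -/
theorem property_bcMap {P : MorphismProperty Scheme.{u}} [P.IsStableUnderBaseChange]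
    (h : P (Spec.map (CommRingCat.ofHom (algebraMap K L)))) : P (bcMap k X K L) :=
  MorphismProperty.of_isPullback (isPullback_bcMap k X K L).flip h

instance : Surjective (bcMap k X K L) :=
  property_bcMap k X K L ⟨fun _ => ⟨default, Subsingleton.elim (α := Spec (CommRingCat.of K)) _ _⟩⟩

instance : UniversallyOpen (bcMap k X K L) := property_bcMap k X K L inferInstance

instance : Flat (bcMap k X K L) := property_bcMap k X K L inferInstance

/-- `Spec L ⟶ Spec K` is geometrically irreducible for `K` algebraically closed. -/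
theorem geometricallyIrreducible_spec [IsAlgClosed K] :
    GeometricallyIrreducible (Spec.map (CommRingCat.ofHom (algebraMap K L))) := by
  constructor
  intro M _ y Z fst snd h
  have := GrothLib.GrpSchField.irreducibleSpace_pullback
    (Spec.map (CommRingCat.ofHom (algebraMap K L))) y
  exact h.isoPullback.inv.homeomorph.surjective.irreducibleSpace h.isoPullback.inv.continuous

theorem geometricallyIrreducible_bcMap [IsAlgClosed K] :
    GeometricallyIrreducible (bcMap k X K L) :=
  property_bcMap k X K L (geometricallyIrreducible_spec K L)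

theorem geometricallyConnected_bcMap [IsAlgClosed K] :
    GeometricallyConnected (bcMap k X K L) := by
  refine property_bcMap k X K L ⟨?_⟩
  intro M _ y Z fst snd h
  have := (geometricallyIrreducible_spec K L).geometrically_irreducibleSpace _ _ _ h
  infer_instance

end trans

variable (K : Type u) [Field K] [Algebra k K]

instance : Surjective (Curv2.bcFst k X K) :=
  MorphismProperty.pullback_fst _ _ (show Surjective (Spec.map (CommRingCat.ofHom (algebraMap k K)))
    from ⟨fun _ => ⟨default, Subsingleton.elim (α := Spec (CommRingCat.of k)) _ _⟩⟩)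

instance isIntegralHom_bcFst [Algebra.IsAlgebraic k K] : IsIntegralHom (Curv2.bcFst k X K) :=
  MorphismProperty.pullback_fst _ _ (IsIntegralHom.SpecMap_iff.mpr
    (algebraMap_isIntegral_iff.mpr inferInstance))

@[reassoc (attr := simp)]
theorem galAct_fst (σ : K ≃ₐ[k] K) : Curv2.galAct k X K σ ≫ Curv2.bcFst k X K = Curv2.bcFst k X K := by
  exact (pullback.lift_fst _ _ _).trans (Category.comp_id _)

@[reassoc]
theorem galAct_snd (σ : K ≃ₐ[k] K) : Curv2.galAct k X K σ ≫ Curv2.bcSnd k X K =
    Curv2.bcSnd k X K ≫ Spec.map (CommRingCat.ofHom (σ : K →ₐ[k] K).toRingHom) :=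
  pullback.lift_snd _ _ _

theorem galAct_fst_apply (σ : K ≃ₐ[k] K) (z : Curv2.bc k X K) :
    Curv2.bcFst k X K (Curv2.galAct k X K σ z) = Curv2.bcFst k X K z := by
  rw [← Scheme.Hom.comp_apply, galAct_fst]

theorem galAct_comp (σ τ : K ≃ₐ[k] K) :
    Curv2.galAct k X K σ ≫ Curv2.galAct k X K τ = Curv2.galAct k X K (σ * τ) := by
  apply pullback.hom_ext
  · exact (Category.assoc _ _ _).trans (((congrArg (_ ≫ ·) (galAct_fst k X K τ)).trans
      (galAct_fst k X K σ)).trans (galAct_fst k X K (σ * τ)).symm)
  · refine (Category.assoc _ _ _).trans ?_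
    rw [galAct_snd, galAct_snd_assoc, galAct_snd, ← Spec.map_comp, ← CommRingCat.ofHom_comp]
    rfl

theorem galAct_one : Curv2.galAct k X K 1 = 𝟙 _ := by
  apply pullback.hom_ext
  · exact (galAct_fst k X K 1).trans (Category.id_comp _).symm
  · refine (galAct_snd k X K 1).trans ?_
    show _ ≫ Spec.map (CommRingCat.ofHom (RingHom.id K)) = _
    simp

/-- The Galois action as a homeomorphism. -/
noncomputable def galHomeo (σ : K ≃ₐ[k] K) : ↥(Curv2.bc k X K) ≃ₜ ↥(Curv2.bc k X K) :=
  TopCat.homeoOfIso (Scheme.forgetToTop.mapIso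
    ({ hom := Curv2.galAct k X K σ
       inv := Curv2.galAct k X K σ⁻¹
       hom_inv_id := by rw [galAct_comp, mul_inv_cancel, galAct_one]
       inv_hom_id := by rw [galAct_comp, inv_mul_cancel, galAct_one] } :
      Curv2.bc k X K ≅ Curv2.bc k X K))

@[simp]
theorem galHomeo_apply (σ : K ≃ₐ[k] K) (z : Curv2.bc k X K) :
    galHomeo k X K σ z = Curv2.galAct k X K σ z := rfl

/-- The automorphisms of a normal extension act transitively on the fibres of `X_K ⟶ X`. -/
theorem exists_galAct_eq [Normal k K] (z₁ z₂ : Curv2.bc k X K)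
    (h : Curv2.bcFst k X K z₁ = Curv2.bcFst k X K z₂) :
    ∃ σ : K ≃ₐ[k] K, Curv2.galAct k X K σ z₁ = z₂ := by
  let p := Curv2.bcFst k X K
  obtain ⟨w, hw₁, hw₂⟩ := Scheme.Pullback.exists_preimage_pullback (f := p) (g := p) z₁ z₂ h
  let P := pullback p p
  let Ω := AlgebraicClosure (P.residueField w)
  let ω : Spec (CommRingCat.of Ω) ⟶ P :=
    Spec.map (CommRingCat.ofHom (algebraMap (P.residueField w) Ω)) ≫ P.fromSpecResidueField w
  let b := Spec.map (CommRingCat.ofHom (algebraMap k K))
  let φ := Spec.preimage (ω ≫ pullback.fst p p ≫ Curv2.bcSnd k X K)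
  let ψ := Spec.preimage (ω ≫ pullback.snd p p ≫ Curv2.bcSnd k X K)
  let _ : Algebra k Ω := (φ.hom.comp (algebraMap k K)).toAlgebra
  let _ : Algebra K Ω := φ.hom.toAlgebra
  have : IsScalarTower k K Ω := IsScalarTower.of_algebraMap_eq fun _ => rfl
  have hb : CommRingCat.ofHom (algebraMap k K) ≫ ψ = CommRingCat.ofHom (algebraMap k K) ≫ φ := by
    apply Spec.map_injective
    simp only [Spec.map_comp, φ, ψ, Spec.map_preimage, Category.assoc]
    congr 1
    rw [← pullback.condition (f := X ↘ Spec (CommRingCat.of k)) (g := b),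
      ← pullback.condition_assoc (f := p) (g := p)]
  let ψ' : K →ₐ[k] Ω :=
    { toRingHom := ψ.hom
      commutes' := fun r => congrArg (fun e => e.hom r) hb }
  let σ : K ≃ₐ[k] K := ψ'.restrictNormal' K
  refine ⟨σ, ?_⟩
  have hσ : ω ≫ pullback.fst p p ≫ Curv2.galAct k X K σ = ω ≫ pullback.snd p p := by
    apply pullback.hom_ext
    · simp only [Category.assoc, galAct_fst]
      exact congrArg (ω ≫ ·) pullback.condition
    · simp only [Category.assoc, Curv2.galAct, pullback.lift_snd]
      rw [← Category.assoc, ← Category.assoc, ← Category.assoc, Category.assoc ω,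
        show ω ≫ pullback.fst p p ≫ Curv2.bcSnd k X K = Spec.map φ from (Spec.map_preimage _).symm,
        Category.assoc, show ω ≫ pullback.snd p p ≫ Curv2.bcSnd k X K = Spec.map ψ from
          (Spec.map_preimage _).symm, ← Spec.map_comp]
      congr 1
      ext x
      exact ψ'.restrictNormal_commutes K x
  let pt : Spec (CommRingCat.of Ω) := default
  have hpt : ω pt = w := by
    rw [Scheme.Hom.comp_apply]
    exact Scheme.fromSpecResidueField_apply _ _
  have := congrArg (fun e : Spec (CommRingCat.of Ω) ⟶ Curv2.bc k X K => e pt) hσ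
  simp only [Scheme.Hom.comp_apply, hpt, hw₁, hw₂, p] at this
  exact this

/-- The image of a connected component of `X_K`, `K/k` normal, is a connected component. -/
theorem image_connectedComponent_of_normal [Normal k K] (x : Curv2.bc k X K) :
    Curv2.bcFst k X K '' connectedComponent x = connectedComponent (Curv2.bcFst k X K x) :=
  image_connectedComponent_eq (Γ := Set.range (galHomeo k X K)) (Curv2.bcFst k X K).continuous
    (Curv2.bcFst k X K).isClosedMap (Curv2.bcFst k X K).isCompact_preimage_singleton
    (by rintro _ ⟨σ, rfl⟩ z; exact galAct_fst_apply k X K σ z)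
    (fun z₁ z₂ h => by
      obtain ⟨σ, hσ⟩ := exists_galAct_eq k X K z₁ z₂ h
      exact ⟨_, ⟨σ, rfl⟩, hσ⟩)
    (Curv2.bcFst k X K).surjective x

/-- The image of a connected component of `X_K` is a connected component of `X`. -/
theorem image_connectedComponent (x' : Curv2.bc k X K) :
    Curv2.bcFst k X K '' connectedComponent x' = connectedComponent (Curv2.bcFst k X K x') := by
  refine ((Curv2.bcFst k X K).continuous.image_connectedComponent_subset x').antisymm ?_
  let Ω := AlgebraicClosure K
  let k' := AlgebraicClosure k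
  let j : k' →ₐ[k] Ω := IsAlgClosed.lift
  let _ : Algebra k' Ω := j.toRingHom.toAlgebra
  have : IsScalarTower k k' Ω := IsScalarTower.of_algebraMap_eq fun a => (j.commutes a).symm
  obtain ⟨z, rfl⟩ := (bcMap k X K Ω).surjective x'
  let r := bcMap k X k' Ω
  have := geometricallyConnected_bcMap k X k' Ω
  have hpre : connectedComponent z = r ⁻¹' connectedComponent (r z) :=
    Set.Subset.antisymm (r.continuous.mapsTo_connectedComponent z)
      ((r.isConnected_preimage r.isOpenMap isConnected_connectedComponent
        isClosed_connectedComponent).isPreconnected.subset_connectedComponent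
          (mem_connectedComponent (x := r z)))
  intro y hy
  have hy' : y ∈ Curv2.bcFst k X k' '' connectedComponent (r z) := by
    rw [image_connectedComponent_of_normal, ← Scheme.Hom.comp_apply, bcMap_fst]
    rwa [← Scheme.Hom.comp_apply, bcMap_fst] at hy
  obtain ⟨v, hv, rfl⟩ := hy'
  obtain ⟨w, rfl⟩ := r.surjective v
  refine ⟨bcMap k X K Ω w, (bcMap k X K Ω).continuous.mapsTo_connectedComponent z
    (hpre ▸ hv : w ∈ connectedComponent z), ?_⟩
  rw [← Scheme.Hom.comp_apply, ← Scheme.Hom.comp_apply, bcMap_fst, bcMap_fst]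

end GrothLib.BaseChange
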